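import Groth.Agent.Lib.GeomRed15.Basic
import Groth.Agent.Lib.AlgSpace.PointsBC
import Groth.Agent.Lib.GeomIrr18.Scheme
import Groth.Agent.Lib.GeomIrr18.Fin
import Mathlib.AlgebraicGeometry.Morphisms.Integral
import Mathlib.FieldTheory.Normal.Basic

/-!
# Connectedness of base changes of algebraic spaces along field extensions
-/

universe u

set_option backward.isDefEq.respectTransparency.types false

open CategoryTheory CategoryTheory.Limits AlgebraicGeometry AlgSp Opposite Topology
open Groth.Agent.AlgSpace Groth.Agent.AlgSpDecent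

namespace Groth.Agent.GeomRed15

/-! ### Base change along a morphism of base schemes -/

section BaseMorphism

variable {S : Scheme.{u}} {T T' : Over S} {φ : T' ⟶ T} {P Z : Sp S} {fst : P ⟶ Z}
  {snd : P ⟶ (yon S).obj T'} {z : Z ⟶ (yon S).obj T}

/-- A chart of the target gives a chart of the base change, with scheme theoretic projection. -/
theorem exists_chart_bc_of (sq : IsPullback fst snd z ((yon S).map φ)) {U : Over S} (a : (yon S).obj U ⟶ Z)
    (χ : U ⟶ T) (hχ : (yon S).map χ = a ≫ z) :
    ∃ (m : (yon S).obj (Over.mk (pullback.fst χ.left φ.left ≫ U.hom)) ⟶ P),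
      IsPullback m ((yon S).map (Over.homMk (pullback.fst χ.left φ.left) rfl :
        Over.mk (pullback.fst χ.left φ.left ≫ U.hom) ⟶ U)) fst a ∧
      ∃ q, m ≫ snd = (yon S).map q ∧ q.left = pullback.snd χ.left φ.left := by
  let V : Over S := Over.mk (pullback.fst χ.left φ.left ≫ U.hom)
  let p : V ⟶ U := Over.homMk (pullback.fst χ.left φ.left) rfl
  let q : V ⟶ T' := Over.homMk (pullback.snd χ.left φ.left) (by
    change _ = pullback.fst χ.left φ.left ≫ U.hom
    rw [← Over.w φ, ← pullback.condition_assoc, Over.w χ])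
  have sqO : IsPullback p q χ φ := IsPullback.of_map (Over.forget S)
    (Over.OverMorphism.ext pullback.condition) (IsPullback.of_hasPullback χ.left φ.left)
  have sqV : IsPullback ((yon S).map p) ((yon S).map q) (a ≫ z) ((yon S).map φ) := by
    rw [← hχ]
    exact sqO.map (yon S)
  let m : (yon S).obj V ⟶ P := sq.lift ((yon S).map p ≫ a) ((yon S).map q)
    ((Category.assoc _ _ _).trans sqV.w)
  refine ⟨m, IsPullback.of_right ?_ (sq.lift_fst _ _ _) sq.flip, q, sq.lift_snd _ _ _, rfl⟩
  rw [show m ≫ snd = (yon S).map q from sq.lift_snd _ _ _]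
  exact sqV.flip

/-- A chart of the target gives a chart of the base change. -/
theorem exists_chart_bc (sq : IsPullback fst snd z ((yon S).map φ)) {U : Over S} (a : (yon S).obj U ⟶ Z) :
    ∃ (ψ : U.left ⟶ T.left) (m : (yon S).obj (Over.mk (pullback.fst ψ φ.left ≫ U.hom)) ⟶ P),
      IsPullback m ((yon S).map (Over.homMk (pullback.fst ψ φ.left) rfl :
        Over.mk (pullback.fst ψ φ.left ≫ U.hom) ⟶ U)) fst a ∧
      ∃ q, m ≫ snd = (yon S).map q ∧ q.left = pullback.snd ψ φ.left := by
  obtain ⟨χ, hχ⟩ := (yon S).map_surjective (a ≫ z)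
  exact ⟨χ.left, exists_chart_bc_of sq a χ hχ⟩

theorem repWith_bc (sq : IsPullback fst snd z ((yon S).map φ)) (hZ : IsAlgSpace Z) :
    ∃ (U : Over S) (a : (yon S).obj U ⟶ Z) (ψ : U.left ⟶ T.left)
      (m : (yon S).obj (Over.mk (pullback.fst ψ φ.left ≫ U.hom)) ⟶ P),
      RepWith @Etale a ∧ RepWith @Surjective a ∧
      IsPullback m ((yon S).map (Over.homMk (pullback.fst ψ φ.left) rfl :
        Over.mk (pullback.fst ψ φ.left ≫ U.hom) ⟶ U)) fst a := by
  obtain ⟨U, a, hae, has⟩ := hZ.atlas
  obtain ⟨ψ, m, h, -⟩ := exists_chart_bc sq a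
  exact ⟨U, a, ψ, m, hae, has, h⟩

theorem exists_atlas_point {U : Over S} {a : (yon S).obj U ⟶ Z} (ha : RepWith @Surjective a) :
    ∀ x, ∃ (_ : PUnit.{u + 1}) (w : Points ((yon S).obj U)), Points.map a w = x := fun x =>
  have ⟨w, hw⟩ := surjective_map_of_repWith ha x
  ⟨⟨⟩, w, hw⟩

theorem isOpenMap_bc (sq : IsPullback fst snd z ((yon S).map φ)) (hZ : IsAlgSpace Z) [UniversallyOpen φ.left] :
    IsOpenMap (Points.map fst) := by
  obtain ⟨U, a, ψ, m, hae, has, h⟩ := repWith_bc sq hZ
  refine isOpenMap_of_cover (κ := PUnit.{u + 1}) (exists_atlas_point has) (fun _ => h)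
    (fun _ => isOpenMap_map_of_etale hae) fun _ => ?_
  exact (isOpenMor_yon_iff _).2 (pullback.fst ψ φ.left).isOpenMap

theorem isClosedMap_bc (sq : IsPullback fst snd z ((yon S).map φ)) (hZ : IsAlgSpace Z) [UniversallyClosed φ.left] :
    IsClosedMap (Points.map fst) := by
  obtain ⟨U, a, ψ, m, hae, has, h⟩ := repWith_bc sq hZ
  refine isClosedMap_of_cover (κ := PUnit.{u + 1}) (exists_atlas_point has) (fun _ => h)
    (fun _ => isOpenMap_map_of_etale hae) fun _ => ?_
  exact (isClosedMor_yon_iff _).2 (pullback.fst ψ φ.left).isClosedMap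

theorem surjective_bc (sq : IsPullback fst snd z ((yon S).map φ)) (hZ : IsAlgSpace Z) [Surjective φ.left] :
    Function.Surjective (Points.map fst) := by
  obtain ⟨U, a, ψ, m, hae, has, h⟩ := repWith_bc sq hZ
  intro x
  obtain ⟨u, rfl⟩ := surjective_ofPt has x
  have : Surjective (pullback.fst ψ φ.left) := MorphismProperty.pullback_fst _ _ inferInstance
  obtain ⟨v, hv⟩ := (pullback.fst ψ φ.left).surjective u
  exact ⟨Points.ofPt m v, (ofPt_sq h.w v).trans (congrArg (Points.ofPt a) hv)⟩

theorem isConnected_fibre_bc (sq : IsPullback fst snd z ((yon S).map φ)) (hZ : IsAlgSpace Z)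
    [GeometricallyConnected φ.left] (x : Points Z) : _root_.IsConnected (Points.map fst ⁻¹' {x}) := by
  obtain ⟨U, a, ψ, m, hae, has, h⟩ := repWith_bc sq hZ
  obtain ⟨u, rfl⟩ := surjective_ofPt has x
  have : GeometricallyConnected (pullback.fst ψ φ.left) := MorphismProperty.pullback_fst _ _ inferInstance
  have e : Points.map fst ⁻¹' {Points.ofPt a u} = Points.ofPt m '' (pullback.fst ψ φ.left ⁻¹' {u}) := by
    ext y
    constructor
    · intro hy
      obtain ⟨v, hv₁, hv₂⟩ := exists_pt_of_isPullback h (x := y) (t := u) hy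
      exact ⟨v, hv₂, hv₁⟩
    · rintro ⟨v, hv, rfl⟩
      exact (ofPt_sq h.w v).trans (congrArg (Points.ofPt a) hv)
  rw [e]
  exact ((pullback.fst ψ φ.left).isConnected_preimage_singleton u).image _ (Points.continuous_ofPt m).continuousOn

theorem connectedComponents_bijective_bc (sq : IsPullback fst snd z ((yon S).map φ)) (hZ : IsAlgSpace Z)
    [UniversallyOpen φ.left] [GeometricallyConnected φ.left] :
    Function.Bijective (Continuous.connectedComponentsMap (Points.continuous_map fst)) :=
  ((isOpenMap_bc sq hZ).isQuotientMap (Points.continuous_map fst)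
    (fun x => (isConnected_fibre_bc sq hZ x).nonempty)).isCoinducing.connectedComponentsMap_bijective
    (isConnected_fibre_bc sq hZ)

theorem connectedSpace_bc (sq : IsPullback fst snd z ((yon S).map φ)) (hZ : IsAlgSpace Z)
    [UniversallyOpen φ.left] [GeometricallyConnected φ.left] [ConnectedSpace (Points Z)] :
    ConnectedSpace (Points P) := by
  have hq := ((isOpenMap_bc sq hZ).isQuotientMap (Points.continuous_map fst)
    (fun x => (isConnected_fibre_bc sq hZ x).nonempty)).isCoinducing
  refine connectedSpace_iff_univ.2 ?_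
  rw [← Set.preimage_univ (f := Points.map fst)]
  exact hq.isConnected_preimage_of_isClosed (isConnected_fibre_bc sq hZ) isClosed_univ isConnected_univ

/-- The other projection is open when everything is universally open over the base. -/
theorem isOpenMap_bc_snd (sq : IsPullback fst snd z ((yon S).map φ)) (hZ : IsAlgSpace Z)
    (hT : ∀ (W : Scheme.{u}) (ψ : W ⟶ T.left), UniversallyOpen ψ) : IsOpenMap (Points.map snd) := by
  obtain ⟨U, a, hae, has⟩ := hZ.atlas
  obtain ⟨ψ, m, h, q, hq, hql⟩ := exists_chart_bc sq a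
  have hs : Function.Surjective (Points.map m) := surjective_of_isPullback h.flip (surjective_map_of_repWith has)
  intro O hO
  rw [← Set.image_preimage_eq O hs, ← Set.image_comp,
    show Points.map snd ∘ Points.map m = Points.map ((yon S).map q) from funext fun v => by
      rw [Function.comp_apply, ← Points.map_comp, hq]]
  refine (isOpenMor_yon_iff q).2 ?_ _ (hO.preimage (Points.continuous_map _))
  have := hT _ ψ
  rw [hql]
  exact (pullback.snd ψ φ.left).isOpenMap

end BaseMorphism

theorem universallyOpen_specMap (k K : Type u) [Field k] [Field K] [Algebra k K] :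
    UniversallyOpen (Spec.map (CommRingCat.ofHom (algebraMap k K))) := by
  have : Subsingleton ↥(Spec (CommRingCat.of k)) := inferInstanceAs (Subsingleton (PrimeSpectrum k))
  have : IsDomain (CommRingCat.of k) := inferInstanceAs (IsDomain k)
  have : AlgebraicGeometry.IsIntegral (Spec (CommRingCat.of k)) := inferInstance
  infer_instance

/-! ### Field extensions -/

section Field

variable {k : Type u} [Field k]

/-- A sheaf over a field and the corresponding product with an extension. -/
noncomputable abbrev bcSp (F : Sp (Spec (CommRingCat.of k))) (K : Type u) [Field K] [Algebra k K] :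
    Sp (Spec (CommRingCat.of k)) :=
  F ⨯ (yon _).obj (TK k K)

variable {F : Sp (Spec (CommRingCat.of k))} {K Ω : Type u} [Field K] [Field Ω] [Algebra k K] [Algebra k Ω]

/-- The morphism of base extensions given by a field embedding. -/
noncomputable def gHom (f : K →ₐ[k] Ω) : TK k Ω ⟶ TK k K :=
  Over.homMk (Spec.map (CommRingCat.ofHom f.toRingHom)) (by
    change Spec.map (CommRingCat.ofHom f.toRingHom) ≫ Spec.map (CommRingCat.ofHom (algebraMap k K)) =
      Spec.map (CommRingCat.ofHom (algebraMap k Ω))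
    rw [← Spec.map_comp, ← CommRingCat.ofHom_comp]
    exact congrArg (fun φ => Spec.map (CommRingCat.ofHom φ)) f.comp_algebraMap)

theorem exists_gHom_eq (g : TK k Ω ⟶ TK k K) : ∃ f : K →ₐ[k] Ω, gHom f = g := by
  obtain ⟨φ, hφ⟩ := Spec.map_surjective g.left
  have h : φ.hom.comp (algebraMap k K) = algebraMap k Ω := by
    have h0 : CommRingCat.ofHom (algebraMap k K) ≫ φ = CommRingCat.ofHom (algebraMap k Ω) :=
      Spec.map_injective (by rw [Spec.map_comp, hφ]; exact Over.w g)
    exact congrArg CommRingCat.Hom.hom h0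
  exact ⟨AlgHom.mk φ.hom (fun c => RingHom.congr_fun h c), Over.OverMorphism.ext hφ⟩

theorem gHom_comp {L : Type u} [Field L] [Algebra k L] (f : K →ₐ[k] Ω) (f' : Ω →ₐ[k] L) :
    gHom f' ≫ gHom f = gHom (f'.comp f) :=
  Over.OverMorphism.ext (by
    change Spec.map (CommRingCat.ofHom f'.toRingHom) ≫ Spec.map (CommRingCat.ofHom f.toRingHom) = _
    rw [← Spec.map_comp, ← CommRingCat.ofHom_comp]
    rfl)

variable (F) in
/-- The comparison of two base changes. -/
noncomputable def bmap (g : TK k Ω ⟶ TK k K) : bcSp F Ω ⟶ bcSp F K :=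
  prod.map (𝟙 F) ((yon _).map g)

theorem isPullback_bmap (g : TK k Ω ⟶ TK k K) :
    IsPullback (bmap F g) prod.snd prod.snd ((yon _).map g) := by
  refine IsPullback.mk' (prod.map_snd _ _) (fun T φ φ' h₁ h₂ => prod.hom_ext ?_ h₂) fun T a b h =>
    ⟨prod.lift (a ≫ prod.fst) b, prod.hom_ext ?_ ?_, prod.lift_snd _ _⟩
  · have e : bmap F g ≫ prod.fst = prod.fst := (prod.map_fst _ _).trans (Category.comp_id _)
    exact ((congrArg (φ ≫ ·) e).symm.trans (Category.assoc _ _ _).symm).trans
      ((congrArg (· ≫ prod.fst) h₁).trans ((Category.assoc _ _ _).trans (congrArg (φ' ≫ ·) e)))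
  · exact (Category.assoc _ _ _).trans ((congrArg (_ ≫ ·) ((prod.map_fst _ _).trans (Category.comp_id _))).trans
      (prod.lift_fst _ _))
  · refine (Category.assoc _ _ _).trans ?_
    rw [bmap, prod.map_snd, ← Category.assoc]
    exact (congrArg (· ≫ (yon _).map g) (prod.lift_snd _ _)).trans h.symm

theorem isTerminal_yon_id : Nonempty (IsTerminal ((yon (Spec (CommRingCat.of k))).obj (Over.mk (𝟙 _)))) :=
  ⟨Over.mkIdTerminal.isTerminalObj (yon _) _⟩

theorem exists_isPullback_fst (K : Type u) [Field K] [Algebra k K] :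
    ∃ (z : F ⟶ (yon _).obj (Over.mk (𝟙 (Spec (CommRingCat.of k))))) (φ : TK k K ⟶ Over.mk (𝟙 _)),
      IsPullback (prod.fst : bcSp F K ⟶ F) prod.snd z ((yon _).map φ) ∧
        φ.left = Spec.map (CommRingCat.ofHom (algebraMap k K)) := by
  obtain ⟨hT⟩ := isTerminal_yon_id (k := k)
  refine ⟨hT.from F, Over.homMk (Spec.map (CommRingCat.ofHom (algebraMap k K))) (Category.comp_id _), ?_, rfl⟩
  rw [hT.hom_ext ((yon _).map _) (hT.from _)]
  exact IsPullback.of_isLimit_binaryFan_of_isTerminal (limit.isLimit _) hT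

theorem isOpenMap_fst (hF : IsAlgSpace F) (K : Type u) [Field K] [Algebra k K] :
    IsOpenMap (Points.map (prod.fst : bcSp F K ⟶ F)) := by
  obtain ⟨z, φ, sq, hφ⟩ := exists_isPullback_fst (F := F) K
  have : UniversallyOpen φ.left := by rw [hφ]; exact universallyOpen_specMap k K
  exact isOpenMap_bc sq hF

theorem surjective_fst (hF : IsAlgSpace F) (K : Type u) [Field K] [Algebra k K] :
    Function.Surjective (Points.map (prod.fst : bcSp F K ⟶ F)) := by
  obtain ⟨z, φ, sq, hφ⟩ := exists_isPullback_fst (F := F) K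
  have : Surjective φ.left := by rw [hφ]; exact GeomIrr.surjective_specMap k K
  exact surjective_bc sq hF

/-- Connected components do not change from a separably closed field. -/
theorem connectedComponents_bijective_fst [IsSepClosed k] (hF : IsAlgSpace F) (K : Type u) [Field K] [Algebra k K] :
    Function.Bijective (Continuous.connectedComponentsMap
      (Points.continuous_map (prod.fst : bcSp F K ⟶ F))) := by
  obtain ⟨z, φ, sq, hφ⟩ := exists_isPullback_fst (F := F) K
  have := GeomIrr.geometricallyIrreducible_specMap k K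
  have : UniversallyOpen φ.left := by rw [hφ]; exact universallyOpen_specMap k K
  have : GeometricallyConnected φ.left := by rw [hφ]; exact GeomIrr.geometricallyConnected_of_irreducible _
  exact connectedComponents_bijective_bc sq hF

theorem connectedSpace_bc_of_isSepClosed [IsSepClosed k] (hF : IsAlgSpace F) [ConnectedSpace (Points F)]
    (K : Type u) [Field K] [Algebra k K] : ConnectedSpace (Points (bcSp F K)) := by
  obtain ⟨z, φ, sq, hφ⟩ := exists_isPullback_fst (F := F) K
  have := GeomIrr.geometricallyIrreducible_specMap k K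
  have : UniversallyOpen φ.left := by rw [hφ]; exact universallyOpen_specMap k K
  have : GeometricallyConnected φ.left := by rw [hφ]; exact GeomIrr.geometricallyConnected_of_irreducible _
  exact connectedSpace_bc sq hF

theorem connectedSpace_of_fst (hF : IsAlgSpace F) (K : Type u) [Field K] [Algebra k K]
    [ConnectedSpace (Points (bcSp F K))] : ConnectedSpace (Points F) := by
  refine connectedSpace_iff_univ.2 ?_
  rw [← (surjective_fst hF K).range_eq]
  exact isConnected_range (Points.continuous_map _)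

theorem isAlgSpace_bcSp (hF : IsAlgSpace F) (K : Type u) [Field K] [Algebra k K] : IsAlgSpace (bcSp F K) := by
  obtain ⟨z, φ, sq, -⟩ := exists_isPullback_fst (F := F) K
  exact isAlgSpace_baseChange hF (IsAlgSpace.yon_obj _) (IsAlgSpace.yon_obj _) sq

theorem universallyOpen_gHom (f : K →ₐ[k] Ω) : UniversallyOpen (gHom f).left := by
  let _ : Algebra K Ω := f.toRingHom.toAlgebra
  exact universallyOpen_specMap K Ω

theorem surjective_gHom (f : K →ₐ[k] Ω) : Surjective (gHom f).left := by
  let _ : Algebra K Ω := f.toRingHom.toAlgebra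
  exact GeomIrr.surjective_specMap K Ω

theorem universallyClosed_gHom (f : K →ₐ[k] Ω) (hf : f.toRingHom.IsIntegral) : UniversallyClosed (gHom f).left := by
  have : IsIntegralHom (Spec.map (CommRingCat.ofHom f.toRingHom)) := by
    rw [IsIntegralHom.SpecMap_iff]
    exact hf
  exact inferInstanceAs (UniversallyClosed (Spec.map (CommRingCat.ofHom f.toRingHom)))

theorem connectedSpace_of_bmap (hF : IsAlgSpace F) (f : K →ₐ[k] Ω) [ConnectedSpace (Points (bcSp F Ω))] :
    ConnectedSpace (Points (bcSp F K)) := by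
  have := surjective_gHom f
  refine connectedSpace_iff_univ.2 ?_
  rw [← (surjective_bc (isPullback_bmap (F := F) (gHom f)) (isAlgSpace_bcSp hF K)).range_eq]
  exact isConnected_range (Points.continuous_map _)

theorem connectedSpace_bmap_of_isSepClosed [IsSepClosed K] (hF : IsAlgSpace F) (f : K →ₐ[k] Ω)
    [ConnectedSpace (Points (bcSp F K))] : ConnectedSpace (Points (bcSp F Ω)) := by
  have := universallyOpen_gHom f
  have : GeometricallyConnected (gHom f).left := by
    let _ : Algebra K Ω := f.toRingHom.toAlgebra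
    have := GeomIrr.geometricallyIrreducible_specMap K Ω
    exact GeomIrr.geometricallyConnected_of_irreducible (Spec.map (CommRingCat.ofHom (algebraMap K Ω)))
  exact connectedSpace_bc (isPullback_bmap (F := F) (gHom f)) (isAlgSpace_bcSp hF K)

/-- Two extensions have a common one. -/
theorem exists_compositum (k : Type u) [Field k] (K L : Type u) [Field K] [Field L] [Algebra k K] [Algebra k L] :
    ∃ (Ω : Type u) (_ : Field Ω) (_ : Algebra k Ω), Nonempty (K →ₐ[k] Ω) ∧ Nonempty (L →ₐ[k] Ω) := by
  obtain ⟨Ω, _, i₁, i₂, h⟩ := FieldPt.exists_amalgamation (algebraMap k K) (algebraMap k L)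
  exact ⟨Ω, inferInstance, (i₁.comp (algebraMap k K)).toAlgebra,
    ⟨letI := (i₁.comp (algebraMap k K)).toAlgebra; AlgHom.mk i₁ (fun _ => rfl)⟩,
    ⟨letI := (i₁.comp (algebraMap k K)).toAlgebra; AlgHom.mk i₂ (fun c => (RingHom.congr_fun h c).symm)⟩⟩

theorem geometricallyConnected_of_sepClosed [IsSepClosed K] (hF : IsAlgSpace F)
    [ConnectedSpace (Points (bcSp F K))] (L : Type u) [Field L] [Algebra k L] :
    ConnectedSpace (Points (bcSp F L)) := by
  obtain ⟨M, _, _, ⟨i⟩, ⟨j⟩⟩ := exists_compositum k K L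
  have := connectedSpace_bmap_of_isSepClosed (F := F) hF i
  exact connectedSpace_of_bmap hF j

/-! ### Galois orbits -/

theorem exists_aut_of_normal (f : K →ₐ[k] Ω) {L : Type u} [Field L] [Algebra k L] (h h' : Ω →ₐ[k] L)
    (hn : @Normal K Ω _ _ f.toRingHom.toAlgebra) (e : h.comp f = h'.comp f) :
    ∃ σ : Ω ≃ₐ[k] Ω, (σ : Ω →ₐ[k] Ω).comp f = f ∧ h' = h.comp (σ : Ω →ₐ[k] Ω) := by
  let _ : Algebra K Ω := f.toRingHom.toAlgebra
  let _ : Algebra K L := (h.comp f).toRingHom.toAlgebra
  have : IsScalarTower k K Ω := IsScalarTower.of_algebraMap_eq fun c => (f.commutes c).symm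
  have : IsScalarTower k K L := IsScalarTower.of_algebraMap_eq fun c => ((h.comp f).commutes c).symm
  let H : Ω →ₐ[K] L := AlgHom.mk h.toRingHom (fun _ => rfl)
  let H' : Ω →ₐ[K] L := AlgHom.mk h'.toRingHom (fun c => (AlgHom.congr_fun e c).symm)
  have : Normal K H.fieldRange := Normal.of_algEquiv (AlgEquiv.ofInjectiveField H)
  have e1 : H'.fieldRange = H.fieldRange := by
    let ee : Ω ≃ₐ[K] H.fieldRange := AlgEquiv.ofInjectiveField H
    refine Eq.trans ?_ (AlgHom.fieldRange_of_normal (H'.comp ee.symm.toAlgHom))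
    ext y
    exact ⟨fun ⟨w, hw⟩ => ⟨ee w, (congrArg H' (ee.symm_apply_apply w)).trans hw⟩, fun ⟨w, hw⟩ => ⟨ee.symm w, hw⟩⟩
  let σ : Ω ≃ₐ[K] Ω := (AlgEquiv.ofInjectiveField H').trans
    ((IntermediateField.equivOfEq e1).trans (AlgEquiv.ofInjectiveField H).symm)
  refine ⟨σ.restrictScalars k, AlgHom.ext fun c => σ.commutes c, AlgHom.ext fun w => ?_⟩
  change h' w = H (σ w)
  exact (congrArg Subtype.val ((AlgEquiv.ofInjectiveField H).apply_symm_apply
    (IntermediateField.equivOfEq e1 (AlgEquiv.ofInjectiveField H' w)))).symm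

/-- Points with the same image in a smaller base change differ by an automorphism. -/
theorem exists_aut_map_eq (f : K →ₐ[k] Ω) (hn : @Normal K Ω _ _ f.toRingHom.toAlgebra)
    {x x' : Points (bcSp F Ω)} (h : Points.map (bmap F (gHom f)) x = Points.map (bmap F (gHom f)) x') :
    ∃ σ : Ω ≃ₐ[k] Ω, (σ : Ω →ₐ[k] Ω).comp f = f ∧
      Points.map (bmap F (gHom (σ : Ω →ₐ[k] Ω))) x = x' := by
  induction x using Points.ind with
  | h p =>
  induction x' using Points.ind with
  | h q =>
  rw [Points.map_mk, Points.map_mk] at h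
  obtain ⟨L, _, w, a, b, hab⟩ := exists_common_of_mk_eq h
  rw [FieldPt.toHom_map, FieldPt.toHom_map] at hab
  change Over.mk w ⟶ p.pt at a
  change Over.mk w ⟶ q.pt at b
  have hab' : ((yon _).map a ≫ p.toHom) ≫ bmap F (gHom f) = ((yon _).map b ≫ q.toHom) ≫ bmap F (gHom f) :=
    (Category.assoc _ _ _).trans (hab.trans (Category.assoc _ _ _).symm)
  let _ : Algebra k L := (Spec.preimage w).hom.toAlgebra
  have hw : Over.mk w = TK k L := congrArg (fun t => Over.mk t) (Spec.map_preimage w).symm
  let u : TK k L ⟶ TK k Ω := eqToHom hw.symm ≫ (yon _).preimage ((yon _).map a ≫ p.toHom ≫ prod.snd)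
  let u' : TK k L ⟶ TK k Ω := eqToHom hw.symm ≫ (yon _).preimage ((yon _).map b ≫ q.toHom ≫ prod.snd)
  obtain ⟨i, hi⟩ := exists_gHom_eq u
  obtain ⟨i', hi'⟩ := exists_gHom_eq u'
  have eF : bmap F (gHom f) ≫ prod.fst = prod.fst := (prod.map_fst _ _).trans (Category.comp_id _)
  have eS : bmap F (gHom f) ≫ prod.snd = prod.snd ≫ (yon _).map (gHom f) := prod.map_snd _ _
  have hfst : (yon _).map a ≫ p.toHom ≫ prod.fst = (yon _).map b ≫ q.toHom ≫ prod.fst := by
    have := congrArg (fun t => t ≫ (prod.fst : bcSp F K ⟶ F)) hab'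
    simp only [Category.assoc, eF] at this
    exact this
  have hu₀ : (yon _).map u = (yon _).map (eqToHom hw.symm) ≫ (yon _).map a ≫ p.toHom ≫ prod.snd :=
    ((yon _).map_comp _ _).trans (congrArg (_ ≫ ·) ((yon _).map_preimage _))
  have hu₀' : (yon _).map u' = (yon _).map (eqToHom hw.symm) ≫ (yon _).map b ≫ q.toHom ≫ prod.snd :=
    ((yon _).map_comp _ _).trans (congrArg (_ ≫ ·) ((yon _).map_preimage _))
  have hsnd : (yon _).map u ≫ (yon _).map (gHom f) = (yon _).map u' ≫ (yon _).map (gHom f) := by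
    have := congrArg (fun t => (yon _).map (eqToHom hw.symm) ≫ t ≫ prod.snd) hab'
    simp only [Category.assoc, eS] at this
    rw [hu₀, hu₀']
    simp only [Category.assoc]
    exact this
  have e : i.comp f = i'.comp f := by
    have := (yon _).map_injective (by simpa only [← Functor.map_comp] using hsnd)
    rw [← hi, ← hi', gHom_comp, gHom_comp] at this
    exact AlgHom.coe_ringHom_injective (congrArg CommRingCat.Hom.hom
      (Spec.map_injective (congrArg (fun t => t.left) this)))
  obtain ⟨σ, hσ, hi''⟩ := exists_aut_of_normal f i i' hn e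
  refine ⟨σ, hσ, ?_⟩
  let t : ↥(Over.mk w).left := IsLocalRing.closedPoint L
  rw [← Points.ofPt_toHom p (a.left t), ← Points.ofPt_toHom q (b.left t), ← ofPt_map_comp, ← ofPt_map_comp,
    Points.map_ofPt]
  congr 1
  have eF' : bmap F (gHom (σ : Ω →ₐ[k] Ω)) ≫ prod.fst = prod.fst := (prod.map_fst _ _).trans (Category.comp_id _)
  have eS' : bmap F (gHom (σ : Ω →ₐ[k] Ω)) ≫ prod.snd = prod.snd ≫ (yon _).map (gHom (σ : Ω →ₐ[k] Ω)) :=
    prod.map_snd _ _
  refine prod.hom_ext (by simp only [Category.assoc, eF']; exact hfst) ?_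
  simp only [Category.assoc, eS']
  have hu : u ≫ gHom (σ : Ω →ₐ[k] Ω) = u' := by rw [← hi, ← hi', gHom_comp, hi'']
  have h3 := congrArg (fun t => (yon _).map t) hu
  simp only [Functor.map_comp] at h3
  have hiso : Epi ((yon (Spec (CommRingCat.of k))).map (eqToHom hw.symm)) := inferInstance
  refine hiso.left_cancellation _ _ ?_
  simp only [u, u', Functor.map_comp, Functor.map_preimage, Category.assoc] at h3
  exact h3

theorem preimage_image_of_stable (f : K →ₐ[k] Ω) (hn : @Normal K Ω _ _ f.toRingHom.toAlgebra)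
    {T : Set (Points (bcSp F Ω))}
    (hT : ∀ σ : Ω ≃ₐ[k] Ω, (σ : Ω →ₐ[k] Ω).comp f = f →
      ∀ x ∈ T, Points.map (bmap F (gHom (σ : Ω →ₐ[k] Ω))) x ∈ T) :
    Points.map (bmap F (gHom f)) ⁻¹' (Points.map (bmap F (gHom f)) '' T) = T := by
  refine Set.Subset.antisymm (fun x hx => ?_) (Set.subset_preimage_image _ _)
  obtain ⟨y, hy, hyx⟩ := hx
  obtain ⟨σ, hσ, rfl⟩ := exists_aut_map_eq f hn hyx
  exact hT σ hσ y hy

theorem isPullback_prodMap {Y Y' : Sp (Spec (CommRingCat.of k))} (q : Y' ⟶ Y) :
    IsPullback (prod.map (𝟙 F) q) prod.snd prod.snd q := by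
  refine IsPullback.mk' (prod.map_snd _ _) (fun T φ φ' h₁ h₂ => prod.hom_ext ?_ h₂) fun T a b h =>
    ⟨prod.lift (a ≫ prod.fst) b, prod.hom_ext ?_ ?_, prod.lift_snd _ _⟩
  · have e : prod.map (𝟙 F) q ≫ prod.fst = prod.fst := (prod.map_fst _ _).trans (Category.comp_id _)
    exact ((congrArg (φ ≫ ·) e).symm.trans (Category.assoc _ _ _).symm).trans
      ((congrArg (· ≫ prod.fst) h₁).trans ((Category.assoc _ _ _).trans (congrArg (φ' ≫ ·) e)))
  · exact (Category.assoc _ _ _).trans ((congrArg (_ ≫ ·) ((prod.map_fst _ _).trans (Category.comp_id _))).trans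
      (prod.lift_fst _ _))
  · refine (Category.assoc _ _ _).trans ?_
    rw [prod.map_snd, ← Category.assoc]
    exact (congrArg (· ≫ q) (prod.lift_snd _ _)).trans h.symm

theorem isOpenMap_snd (hF : IsAlgSpace F) {Y : Sp (Spec (CommRingCat.of k))} (hY : IsAlgSpace Y) :
    IsOpenMap (Points.map (prod.snd : F ⨯ Y ⟶ Y)) := by
  obtain ⟨V, b, hbe, hbs⟩ := hY.atlas
  refine isOpenMap_of_cover (κ := PUnit.{u + 1}) (exists_atlas_point hbs)
    (fun _ => isPullback_prodMap (F := F) b) (fun _ => isOpenMap_map_of_etale hbe) fun _ => ?_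
  obtain ⟨hT⟩ := isTerminal_yon_id (k := k)
  have sq : IsPullback (prod.fst : F ⨯ (yon _).obj V ⟶ F) prod.snd (hT.from F)
      ((yon _).map (Over.homMk V.hom (Category.comp_id _) : V ⟶ Over.mk (𝟙 _))) := by
    rw [hT.hom_ext ((yon _).map _) (hT.from _)]
    exact IsPullback.of_isLimit_binaryFan_of_isTerminal (limit.isLimit _) hT
  refine isOpenMap_bc_snd sq hF fun W ψ => ?_
  have : Subsingleton ↥(Spec (CommRingCat.of k)) := inferInstanceAs (Subsingleton (PrimeSpectrum k))
  have : IsDomain (CommRingCat.of k) := inferInstanceAs (IsDomain k)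
  have : AlgebraicGeometry.IsIntegral (Spec (CommRingCat.of k)) := inferInstance
  exact (inferInstance : UniversallyOpen (show W ⟶ Spec (CommRingCat.of k) from ψ))

/-- The fibres of the second projection are connected when the first factor is geometrically connected. -/
theorem isConnected_fibre_snd (hX : ∀ (K : Type u) [Field K] [Algebra k K], ConnectedSpace (Points (bcSp F K)))
    {Y : Sp (Spec (CommRingCat.of k))} (y : Points Y) :
    _root_.IsConnected (Points.map (prod.snd : F ⨯ Y ⟶ Y) ⁻¹' {y}) := by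
  obtain ⟨⟨K, str, val⟩, rfl⟩ := Points.mk_surjective y
  suffices key : ∀ (_ : Algebra k K), Spec.map (CommRingCat.ofHom (algebraMap k K)) = str →
      _root_.IsConnected (Points.map (prod.snd : F ⨯ Y ⟶ Y) ⁻¹' {Points.mk ⟨K, str, val⟩}) from
    key (Spec.preimage str).hom.toAlgebra (Spec.map_preimage str)
  intro _ hstr
  subst hstr
  let p : FieldPt Y := ⟨K, Spec.map (CommRingCat.ofHom (algebraMap k K)), val⟩
  let q : (yon _).obj (TK k K) ⟶ Y := p.toHom
  have := hX K
  have e : Points.map (prod.snd : F ⨯ Y ⟶ Y) ⁻¹' {Points.mk p} = Set.range (Points.map (prod.map (𝟙 F) q)) := by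
    ext x
    constructor
    · intro hx
      obtain ⟨w, hw⟩ := exists_map_toHom_eq p
      obtain ⟨v, hv, -⟩ := exists_point_lift (isPullback_prodMap (F := F) q) x w (Eq.trans hx hw.symm)
      exact ⟨v, hv⟩
    · rintro ⟨v, rfl⟩
      change Points.map prod.snd _ = _
      rw [← Points.map_comp, prod.map_snd, Points.map_comp]
      exact map_toHom_eq p _
  rw [e]
  exact isConnected_range (Points.continuous_map _)

/-- Points with the same image in the space differ by an automorphism of a normal extension. -/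
theorem exists_aut_fst_eq [Normal k Ω] {x x' : Points (bcSp F Ω)}
    (h : Points.map (prod.fst : bcSp F Ω ⟶ F) x = Points.map prod.fst x') :
    ∃ σ : Ω ≃ₐ[k] Ω, Points.map (bmap F (gHom (σ : Ω →ₐ[k] Ω))) x = x' := by
  have e : TK k k ≅ Over.mk (𝟙 (Spec (CommRingCat.of k))) := Over.isoMk (Iso.refl _) (by
    change 𝟙 _ ≫ 𝟙 _ = Spec.map (CommRingCat.ofHom (algebraMap k k))
    rw [Category.id_comp]
    exact (Spec.map_id _).symm)
  let hT : IsTerminal ((yon (Spec (CommRingCat.of k))).obj (TK k k)) :=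
    (Over.mkIdTerminal.ofIso e.symm).isTerminalObj (yon _) _
  let s : F ⟶ bcSp F k := prod.lift (𝟙 F) (hT.from F)
  have hb : bmap F (gHom (Algebra.ofId k Ω)) = prod.fst ≫ s :=
    prod.hom_ext (((prod.map_fst _ _).trans (Category.comp_id _)).trans
      (((Category.assoc _ _ _).trans ((congrArg (_ ≫ ·) (prod.lift_fst _ _)).trans (Category.comp_id _))).symm))
      (hT.hom_ext _ _)
  obtain ⟨σ, -, hσ⟩ := exists_aut_map_eq (F := F) (Algebra.ofId k Ω)
    (by convert! (inferInstance : Normal k Ω); exact Algebra.algebra_ext _ _ fun _ => rfl)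
    (x := x) (x' := x') (by rw [hb, Points.map_comp, Points.map_comp, h])
  exact ⟨σ, hσ⟩

theorem exists_closed_descent [Normal k Ω] (hF : IsAlgSpace F) {T : Set (Points (bcSp F Ω))} (hT : IsClosed T)
    (hσ : ∀ σ : Ω ≃ₐ[k] Ω, ∀ x ∈ T, Points.map (bmap F (gHom (σ : Ω →ₐ[k] Ω))) x ∈ T) :
    ∃ T₀ : Set (Points F), IsClosed T₀ ∧ Points.map prod.fst ⁻¹' T₀ = T := by
  have hsat : ∀ x x', x ∈ T → Points.map (prod.fst : bcSp F Ω ⟶ F) x = Points.map prod.fst x' → x' ∈ T := by
    intro x x' hx he
    obtain ⟨σ, rfl⟩ := exists_aut_fst_eq he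
    exact hσ σ x hx
  refine ⟨(Points.map prod.fst '' Tᶜ)ᶜ, (isOpenMap_fst hF Ω _ hT.isOpen_compl).isClosed_compl, ?_⟩
  ext x
  constructor
  · intro hx
    by_contra hn
    exact hx ⟨x, hn, rfl⟩
  · rintro hx ⟨y, hy, he⟩
    exact hy (hsat x y hx he.symm)

end Field

end Groth.Agent.GeomRed15
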