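import Groth.Agent.Lib.GeomRed15.Conn
import Groth.Agent.Lib.GeomIrr18.FinCrit

/-!
# Geometric connectedness of algebraic spaces tested on finite separable extensions
-/

universe u

set_option backward.isDefEq.respectTransparency.types false

open CategoryTheory CategoryTheory.Limits AlgebraicGeometry AlgSp Opposite Topology
open Groth.Agent.AlgSpace Groth.Agent.AlgSpDecent

namespace Groth.Agent.GeomRed15

variable {k : Type u} [Field k] {F : Sp (Spec (CommRingCat.of k))} {Ω : Type u} [Field Ω] [Algebra k Ω]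

theorem isClosedMap_bmap (hF : IsAlgSpace F) {K : Type u} [Field K] [Algebra k K] (f : K →ₐ[k] Ω)
    (hf : f.toRingHom.IsIntegral) : IsClosedMap (Points.map (bmap F (gHom f))) := by
  have := universallyClosed_gHom f hf
  exact isClosedMap_bc (isPullback_bmap (F := F) (gHom f)) (isAlgSpace_bcSp hF K)

theorem isClosedMap_fst (hF : IsAlgSpace F) [Algebra.IsAlgebraic k Ω] :
    IsClosedMap (Points.map (prod.fst : bcSp F Ω ⟶ F)) := by
  obtain ⟨z, φ, sq, hφ⟩ := exists_isPullback_fst (F := F) Ω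
  have : IsIntegralHom (Spec.map (CommRingCat.ofHom (algebraMap k Ω))) := by
    rw [IsIntegralHom.SpecMap_iff]
    exact algebraMap_isIntegral_iff.mpr inferInstance
  have : UniversallyClosed φ.left := by
    rw [hφ]
    exact inferInstanceAs (UniversallyClosed (Spec.map (CommRingCat.ofHom (algebraMap k Ω))))
  exact isClosedMap_bc sq hF

/-- A clopen subset over an algebraic extension is stable under automorphisms fixing finitely many elements. -/
theorem exists_finset_stable (hF : IsAlgSpace F) [ConnectedSpace (Points F)] [Algebra.IsAlgebraic k Ω]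
    {T : Set (Points (bcSp F Ω))} (hT : IsClopen T) :
    ∃ s : Finset Ω, ∀ σ : Ω ≃ₐ[k] Ω, (∀ c ∈ s, σ c = c) →
      ∀ x ∈ T, Points.map (bmap F (gHom (σ : Ω →ₐ[k] Ω))) x ∈ T := by
  classical
  obtain ⟨U, a, hae, has⟩ := hF.atlas
  obtain ⟨u₀, -⟩ := surjective_ofPt has (Classical.arbitrary (Points F))
  obtain ⟨W, hW, hu, -⟩ := exists_isAffineOpen_mem_and_subset (U := (⊤ : U.left.Opens)) (x := u₀) trivial
  let V : Over (Spec (CommRingCat.of k)) := Over.mk (W.ι ≫ U.hom)
  obtain ⟨b, hbe⟩ : ∃ b : (yon _).obj V ⟶ F, RepWith @Etale b :=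
    ⟨(yon _).map (Over.homMk W.ι rfl : V ⟶ U) ≫ a, repWith_etale_restrict hae W⟩
  letI : V.left.Over (Spec (CommRingCat.of k)) := ⟨V.hom⟩
  let C := bcChart Ω b
  let S : Set ↥(Curv2.bc k V.left Ω) := Points.ofPt C ⁻¹' T
  have : IsAffine V.left := hW
  have := GeomIrr.isIntegralHom_fst V.hom Ω
  have hSo : IsOpen S := hT.isOpen.preimage (Points.continuous_ofPt C)
  have hSc : IsCompact S :=
    ((QuasiCompact.isCompact_preimage (f := pullback.fst V.hom (Spec.map (CommRingCat.ofHom (algebraMap k Ω))))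
      Set.univ isOpen_univ isCompact_univ).of_isClosed_subset (hT.isClosed.preimage (Points.continuous_ofPt C))
      (fun _ _ => trivial))
  choose! s D hDo hzD hDS hD using fun z (hz : z ∈ S) => GeomIrr.exists_fixedBy hSo hz
  obtain ⟨R, hRS, hR, hcov⟩ := hSc.elim_finite_subcover_image (b := S) (c := D) hDo (fun z hz => Set.mem_biUnion hz (hzD z hz))
  refine ⟨hR.toFinset.biUnion s, fun σ hσ => ?_⟩
  have hS : ∀ z, z ∈ S → Curv2.galAct k V.left Ω σ z ∈ S := by
    intro z hz
    obtain ⟨w, hw, hzw⟩ := Set.mem_iUnion₂.mp (hcov hz)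
    exact hDS w (hRS hw) ((hD w (hRS hw) σ (fun c hc => hσ c (Finset.mem_biUnion.mpr ⟨w, hR.mem_toFinset.mpr hw, hc⟩))) z |>.mp hzw)
  let g := Points.map (bmap F (gHom (σ : Ω →ₐ[k] Ω)))
  let A := T \ g ⁻¹' T
  have hA : IsClopen A := hT.diff (hT.preimage (Points.continuous_map _))
  intro x hx
  by_contra hn
  have himg : IsClopen (Points.map (prod.fst : bcSp F Ω ⟶ F) '' A) :=
    ⟨isClosedMap_fst hF _ hA.isClosed, isOpenMap_fst hF Ω _ hA.isOpen⟩
  have huniv := himg.eq_univ ⟨_, x, ⟨hx, hn⟩, rfl⟩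
  obtain ⟨y, hy, hyv⟩ := huniv.ge (Set.mem_univ (Points.ofPt b ⟨u₀, hu⟩))
  obtain ⟨z, -, rfl⟩ := exists_point_bcChart Ω b (x' := y) hyv.symm
  refine hy.2 ?_
  change Points.map (bmap F (gHom (σ : Ω →ₐ[k] Ω))) (Points.ofPt C z) ∈ T
  let G : bcU Ω V ⟶ bcU Ω V := Over.homMk (Curv2.galAct k V.left Ω σ) (by
    change Curv2.galAct k V.left Ω σ ≫ pullback.fst _ _ ≫ V.hom = pullback.fst _ _ ≫ V.hom
    rw [← Category.assoc]
    exact congrArg (· ≫ V.hom) ((pullback.lift_fst _ _ _).trans (Category.comp_id _)))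
  have hp : G ≫ bcp Ω V = bcp Ω V := Over.OverMorphism.ext ((pullback.lift_fst _ _ _).trans (Category.comp_id _))
  have hq : G ≫ bcq Ω V = bcq Ω V ≫ gHom (σ : Ω →ₐ[k] Ω) := Over.OverMorphism.ext (pullback.lift_snd _ _ _)
  have e : C ≫ bmap F (gHom (σ : Ω →ₐ[k] Ω)) = (yon _).map G ≫ C := by
    refine prod.hom_ext ?_ ?_
    · rw [Category.assoc, Category.assoc, bmap, prod.map_fst, Category.comp_id]
      change bcChart Ω b ≫ prod.fst = (yon _).map G ≫ bcChart Ω b ≫ prod.fst
      rw [show bcChart Ω b ≫ prod.fst = (yon _).map (bcp Ω V) ≫ b from prod.lift_fst _ _, ← Category.assoc,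
        ← Functor.map_comp, hp]
    · rw [Category.assoc, Category.assoc, bmap, prod.map_snd, ← Category.assoc]
      change (bcChart Ω b ≫ prod.snd) ≫ _ = (yon _).map G ≫ bcChart Ω b ≫ prod.snd
      rw [bcChart_snd', ← Functor.map_comp, ← Functor.map_comp, hq]
  rw [Points.map_ofPt, e, ofPt_map_comp]
  exact hS z hy.1

theorem connectedSpace_sepClosure (hF : IsAlgSpace F)
    (h : ∀ (k' : Type u) [Field k'] [Algebra k k'], Module.Finite k k' → Algebra.IsSeparable k k' →
      ConnectedSpace (Points (bcSp F k'))) :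
    ConnectedSpace (Points (bcSp F (SeparableClosure k))) := by
  classical
  have := h k inferInstance inferInstance
  have : ConnectedSpace (Points F) := connectedSpace_of_fst hF k
  refine connectedSpace_iff_clopen.mpr ⟨⟨(surjective_fst hF (SeparableClosure k) (Classical.arbitrary _)).choose⟩,
    fun T hT => ?_⟩
  by_contra hne
  push Not at hne
  obtain ⟨s, hs⟩ := exists_finset_stable hF hT
  let L := IntermediateField.adjoin k (s : Set (SeparableClosure k))
  have : FiniteDimensional k L := IntermediateField.finiteDimensional_adjoin fun x _ => Algebra.IsIntegral.isIntegral x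
  have := h L inferInstance inferInstance
  have hn : @Normal L (SeparableClosure k) _ _ L.val.toRingHom.toAlgebra := by
    convert! (inferInstance : Normal L (SeparableClosure k))
  have hsat := preimage_image_of_stable (F := F) L.val hn (T := T) fun σ hσ x hx =>
    hs σ (fun c hc => AlgHom.congr_fun hσ ⟨c, IntermediateField.subset_adjoin k _ (Finset.mem_coe.mpr hc)⟩) x hx
  have hint : L.val.toRingHom.IsIntegral := fun c =>
    (Algebra.IsIntegral.isIntegral (R := L) c : _root_.IsIntegral L c)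
  have := universallyOpen_gHom L.val
  have hcl : IsClopen (Points.map (bmap F (gHom L.val)) '' T) :=
    ⟨isClosedMap_bmap hF L.val hint _ hT.isClosed,
      isOpenMap_bc (isPullback_bmap (F := F) (gHom L.val)) (isAlgSpace_bcSp hF L) _ hT.isOpen⟩
  obtain ⟨hne1, hne2⟩ := hne
  obtain ⟨v, hv⟩ := Set.nonempty_compl.mpr hne2
  exact hv (hsat.le ((hcl.eq_univ (hne1.image _)).ge (Set.mem_univ _)))

end Groth.Agent.GeomRed15
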