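import Groth.Agent.Lib.GeomRed18.More
import Groth.Agent.Lib.AlgSpDecent.HasAtChart
import Groth.Agent.S2521
import Groth.Prelude.Def_FDesc

/-!
# Geometric reducedness of algebraic spaces over a field
-/

universe u

set_option backward.isDefEq.respectTransparency.types false

open CategoryTheory CategoryTheory.Limits AlgebraicGeometry AlgSp Opposite
open Groth.Agent.AlgSpace Groth.Agent.AlgSpDecent

namespace Groth.Agent.GeomRed15

variable {k : Type u} [Field k]

/-! ### Schemes -/

section Scheme

variable {X X' : Scheme.{u}}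

/-- Geometric reducedness is étale local. -/
theorem iff_of_etale (f : X ⟶ Spec (CommRingCat.of k)) (g : X' ⟶ X) [Etale g] (x' : X') :
    FBase.IsGeomReducedAt (g ≫ f) x' ↔ FBase.IsGeomReducedAt f (g x') := by
  have key : ∀ (K : Type u) [Field K] [Algebra k K],
      ∃ m : FBase.bc (g ≫ f) K ⟶ FBase.bc f K, IsPullback (FBase.bcπ (g ≫ f) K) m g (FBase.bcπ f K) ∧ Etale m := by
    intro K _ _
    let gK := Spec.map (CommRingCat.ofHom (algebraMap k K))
    let m : pullback (g ≫ f) gK ⟶ pullback f gK :=
      pullback.lift (pullback.fst (g ≫ f) gK ≫ g) (pullback.snd (g ≫ f) gK) (by rw [Category.assoc, pullback.condition])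
    have hm₁ : m ≫ pullback.fst f gK = pullback.fst (g ≫ f) gK ≫ g := pullback.lift_fst _ _ _
    have hm₂ : m ≫ pullback.snd f gK = pullback.snd (g ≫ f) gK := pullback.lift_snd _ _ _
    have sq : IsPullback (pullback.fst (g ≫ f) gK) m g (pullback.fst f gK) := by
      refine IsPullback.of_bot ?_ hm₁.symm (IsPullback.of_hasPullback f gK)
      rw [hm₂]
      exact IsPullback.of_hasPullback (g ≫ f) gK
    exact ⟨m, sq, MorphismProperty.of_isPullback (P := @Etale) sq inferInstance⟩
  constructor
  · intro h K _ _ z hz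
    obtain ⟨m, sq, hm⟩ := key K
    obtain ⟨z', h₁, rfl⟩ := Scheme.exists_preimage_of_isPullback sq x' z hz.symm
    exact (isReduced_stalk_etale m z').1 (h K z' h₁)
  · intro h K _ _ z' hz
    obtain ⟨m, sq, hm⟩ := key K
    refine (isReduced_stalk_etale m z').2 (h K (m z') ?_)
    change (m ≫ FBase.bcπ f K) z' = g x'
    rw [← sq.w, ← hz]
    rfl

/-- Geometric reducedness at a point from a perfect extension. -/
theorem of_perfect {Ω : Type u} [Field Ω] [Algebra k Ω] [PerfectField Ω] (f : X ⟶ Spec (CommRingCat.of k)) (x : X)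
    (z : ↥(FBase.bc f Ω)) (hz : FBase.bcπ f Ω z = x) (h : _root_.IsReduced ((FBase.bc f Ω).presheaf.stalk z)) :
    FBase.IsGeomReducedAt f x :=
  Groth.Agent.S2521.result f x z hz h

theorem bcπ_surjective (K : Type u) [Field K] [Algebra k K] (f : X ⟶ Spec (CommRingCat.of k)) (x : X) :
    ∃ z, FBase.bcπ f K z = x := by
  have : Surjective (Spec.map (CommRingCat.ofHom (algebraMap k K))) := ⟨fun p => ⟨default, Subsingleton.elim _ _⟩⟩
  have : Surjective (pullback.fst f (Spec.map (CommRingCat.ofHom (algebraMap k K)))) :=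
    MorphismProperty.pullback_fst _ _ inferInstance
  exact (pullback.fst f (Spec.map (CommRingCat.ofHom (algebraMap k K)))).surjective x

/-- Geometric reducedness and extensions of the base field. -/
theorem iff_bc (K : Type u) [Field K] [Algebra k K] (f : X ⟶ Spec (CommRingCat.of k)) (z : ↥(FBase.bc f K)) :
    FBase.IsGeomReducedAt f (FBase.bcπ f K z) ↔ FBase.IsGeomReducedAt (FBase.bcStr f K) z := by
  constructor
  · intro h L _ _ w hw
    let _ : Algebra k L := ((algebraMap K L).comp (algebraMap k K)).toAlgebra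
    have : IsScalarTower k K L := IsScalarTower.of_algebraMap_eq fun _ => rfl
    let e := (GeomRed.isPullback_trans f K L).isoPullback
    have h2 := h L (e.inv w) (by
      rw [← hw]
      change (e.inv ≫ pullback.fst f _) w = (pullback.fst (FBase.bcStr f K) _ ≫ pullback.fst f _) w
      rw [← GeomRed.trans_fst f K L, ← Category.assoc, (GeomRed.isPullback_trans f K L).isoPullback_inv_fst]
      rfl)
    have h3 := (GeomRed.isReduced_stalk_congr e.hom (e.inv w)).2 h2
    rwa [show e.hom (e.inv w) = w from congrArg (fun φ => φ w) e.inv_hom_id] at h3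
  · intro h
    let Ω := AlgebraicClosure K
    let e := (GeomRed.isPullback_trans f K Ω).isoPullback
    obtain ⟨w, hw⟩ := bcπ_surjective Ω (FBase.bcStr f K) z
    refine of_perfect f _ (e.inv w) ?_ ?_
    · change (e.inv ≫ pullback.fst f _) w = _
      rw [← GeomRed.trans_fst f K Ω, ← Category.assoc, (GeomRed.isPullback_trans f K Ω).isoPullback_inv_fst, ← hw]
      rfl
    · exact (GeomRed.isReduced_stalk_congr e.inv w).2 (h Ω w hw)

theorem isReduced_bc_iff (f : X ⟶ Spec (CommRingCat.of k)) (K : Type u) [Field K] [Algebra k K]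
    (h : ∀ x, FBase.IsGeomReducedAt f x) : AlgebraicGeometry.IsReduced (FBase.bc f K) := by
  have : ∀ z : ↥(FBase.bc f K), _root_.IsReduced ((FBase.bc f K).presheaf.stalk z) := fun z => h _ K z rfl
  exact isReduced_of_isReduced_stalk _

end Scheme

/-! ### Spaces -/

section Space

variable {F : Sp (Spec (CommRingCat.of k))}

/-- Two charts through a point are dominated by a third compatible one. -/
theorem exists_common_chart' {S : Scheme.{u}} {F : Sp S} {U U' : Over S} {a : (yon S).obj U ⟶ F}
    (ha : RepWith @Etale a) {a' : (yon S).obj U' ⟶ F} (ha' : RepWith @Etale a') {u : U.left} {u' : U'.left}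
    (h : Points.ofPt a u = Points.ofPt a' u') :
    ∃ (Z : Over S) (p : Z ⟶ U) (q : Z ⟶ U') (z : Z.left),
      Etale p.left ∧ Etale q.left ∧ (yon S).map p ≫ a = (yon S).map q ≫ a' ∧ p.left z = u ∧ q.left z = u' := by
  have sq := ha.1.isPullback' a'
  obtain ⟨z, hz₁, hz₂⟩ := exists_pt_of_isPullback sq (x := Points.ofScheme U u) (t := u')
    (by rw [← Points.ofPt_eq_map_ofScheme]; exact h)
  rw [ofPt_map_eq] at hz₁
  exact ⟨_, ha.1.fst' a', ha.1.snd a', z, ha'.2 a _ _ sq.flip,
    ha.2 a' _ _ (ha.1.isPullback a'), sq.w, (Points.schemeEquiv U).injective hz₁, hz₂⟩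

/-- Geometric reducedness may be read on any chart. -/
theorem iff_of_charts {U U' : Over (Spec (CommRingCat.of k))} {a : (yon _).obj U ⟶ F} (ha : RepWith @Etale a)
    {a' : (yon _).obj U' ⟶ F} (ha' : RepWith @Etale a') {u : U.left} {u' : U'.left}
    (h : Points.ofPt a u = Points.ofPt a' u') :
    FBase.IsGeomReducedAt U.hom u ↔ FBase.IsGeomReducedAt U'.hom u' := by
  obtain ⟨Z, p, q, z, hp, hq, -, rfl, rfl⟩ := exists_common_chart' ha ha' h
  rw [← iff_of_etale U.hom p.left z, ← iff_of_etale U'.hom q.left z, Over.w p, Over.w q]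

theorem of_exists {U : Over (Spec (CommRingCat.of k))} {a : (yon _).obj U ⟶ F} (ha : RepWith @Etale a) {u : U.left}
    {x : Points F} (hx : Points.ofPt a u = x)
    (h : ∃ (U : Over (Spec (CommRingCat.of k))) (a : (yon _).obj U ⟶ F) (u : ↥U.left),
      RepWith @Etale a ∧ Points.ofPt a u = x ∧ FBase.IsGeomReducedAt U.hom u) : FBase.IsGeomReducedAt U.hom u := by
  obtain ⟨U', a', u', ha', hx', h'⟩ := h
  exact (iff_of_charts ha ha' (hx.trans hx'.symm)).2 h'

variable (K : Type u) [Field K] [Algebra k K]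

/-- The base field extension as an object over the base. -/
noncomputable abbrev TK (k : Type u) [Field k] (K : Type u) [Field K] [Algebra k K] : Over (Spec (CommRingCat.of k)) :=
  Over.mk (Spec.map (CommRingCat.ofHom (algebraMap k K)))

/-- The base change of a chart. -/
noncomputable abbrev bcU (U : Over (Spec (CommRingCat.of k))) : Over (Spec (CommRingCat.of k)) :=
  Over.mk (FBase.bcπ U.hom K ≫ U.hom)

/-- The projection to the chart. -/
noncomputable abbrev bcp (U : Over (Spec (CommRingCat.of k))) : bcU K U ⟶ U := Over.homMk (FBase.bcπ U.hom K) rfl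

/-- The projection to the field. -/
noncomputable abbrev bcq (U : Over (Spec (CommRingCat.of k))) : bcU K U ⟶ TK k K :=
  Over.homMk (FBase.bcStr U.hom K) pullback.condition.symm

/-- The base change is the product. -/
noncomputable def bcIsLimit (U : Over (Spec (CommRingCat.of k))) : IsLimit (BinaryFan.mk (bcp K U) (bcq K U)) :=
  BinaryFan.IsLimit.mk _ (fun {W} s t => Over.homMk (pullback.lift s.left t.left ((Over.w s).trans (Over.w t).symm))
      (by
        change pullback.lift _ _ _ ≫ pullback.fst _ _ ≫ U.hom = W.hom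
        rw [pullback.lift_fst_assoc]
        exact Over.w s))
    (fun s t => Over.OverMorphism.ext (pullback.lift_fst _ _ _))
    (fun s t => Over.OverMorphism.ext (pullback.lift_snd _ _ _))
    (fun s t m h₁ h₂ => Over.OverMorphism.ext (pullback.hom_ext
      ((congrArg (fun r => r.left) h₁).trans (pullback.lift_fst _ _ _).symm)
      ((congrArg (fun r => r.left) h₂).trans (pullback.lift_snd _ _ _).symm)))

/-- The chart of the base change. -/
noncomputable def bcChart {U : Over (Spec (CommRingCat.of k))} (a : (yon _).obj U ⟶ F) :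
    (yon _).obj (bcU K U) ⟶ F ⨯ (yon _).obj (TK k K) :=
  prod.lift ((yon _).map (bcp K U) ≫ a) ((yon _).map (bcq K U))

theorem bcChart_snd' {U : Over (Spec (CommRingCat.of k))} (a : (yon _).obj U ⟶ F) :
    bcChart K a ≫ prod.snd = (yon _).map (bcq K U) := prod.lift_snd _ _

theorem isPullback_bcChart {U : Over (Spec (CommRingCat.of k))} (a : (yon _).obj U ⟶ F) :
    IsPullback ((yon _).map (bcp K U)) (bcChart K a) a prod.fst := by
  let hl := (isLimitMapConeBinaryFanEquiv (yon (Spec (CommRingCat.of k))) (bcp K U) (bcq K U)).1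
    (isLimitOfPreserves (yon (Spec (CommRingCat.of k))) (bcIsLimit K U))
  refine IsPullback.of_isLimit' ⟨(prod.lift_fst _ _).symm⟩ (PullbackCone.IsLimit.mk _
    (fun s => hl.lift (BinaryFan.mk s.fst (s.snd ≫ prod.snd))) (fun s => hl.fac _ ⟨.left⟩)
    (fun s => prod.hom_ext ?_ ?_) fun s m h₁ h₂ => hl.hom_ext ?_)
  · rw [Category.assoc, bcChart, prod.lift_fst, ← Category.assoc]
    exact (congrArg (· ≫ a) (hl.fac (BinaryFan.mk s.fst (s.snd ≫ prod.snd)) ⟨.left⟩)).trans s.condition
  · rw [Category.assoc, bcChart, prod.lift_snd]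
    exact hl.fac (BinaryFan.mk s.fst (s.snd ≫ prod.snd)) ⟨.right⟩
  · rintro ⟨⟨⟩⟩
    · exact h₁.trans (hl.fac (BinaryFan.mk s.fst (s.snd ≫ prod.snd)) ⟨.left⟩).symm
    · refine Eq.trans ?_ (hl.fac (BinaryFan.mk s.fst (s.snd ≫ prod.snd)) ⟨.right⟩).symm
      exact ((Category.assoc _ _ _).trans (congrArg (m ≫ ·) (bcChart_snd' K a))).symm.trans
        (congrArg (· ≫ prod.snd) h₂)

theorem bcChart_etale {U : Over (Spec (CommRingCat.of k))} {a : (yon _).obj U ⟶ F} (ha : RepWith @Etale a) :
    RepWith @Etale (bcChart K a) :=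
  repWith_of_isPullback (isPullback_bcChart K a) ha

theorem bcChart_surjective {U : Over (Spec (CommRingCat.of k))} {a : (yon _).obj U ⟶ F}
    (ha : RepWith @Surjective a) : RepWith @Surjective (bcChart K a) :=
  repWith_of_isPullback (isPullback_bcChart K a) ha

theorem exists_point_bcChart {U : Over (Spec (CommRingCat.of k))} (a : (yon _).obj U ⟶ F) {u : U.left}
    {x' : Points (F ⨯ (yon _).obj (TK k K))} (h : Points.ofPt a u = Points.map prod.fst x') :
    ∃ z : (bcU K U).left, FBase.bcπ U.hom K z = u ∧ Points.ofPt (bcChart K a) z = x' := by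
  obtain ⟨z, h₁, h₂⟩ := exists_pt_of_isPullback (isPullback_bcChart K a).flip (x := x') (t := u) h.symm
  exact ⟨z, h₂, h₁⟩

theorem map_fst_bcChart {U : Over (Spec (CommRingCat.of k))} (a : (yon _).obj U ⟶ F) (z : (bcU K U).left) :
    Points.map prod.fst (Points.ofPt (bcChart K a) z) = Points.ofPt a (FBase.bcπ U.hom K z) :=
  (ofPt_sq (isPullback_bcChart K a).flip.w z)

theorem etaleLocally_bc_of_forall (hF : IsAlgSpace F)
    (h : ∀ (U : Over (Spec (CommRingCat.of k))) (a : (yon _).obj U ⟶ F), RepWith @Etale a → RepWith @Surjective a →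
      ∀ u, FBase.IsGeomReducedAt U.hom u) :
    EtaleLocally (fun U => AlgebraicGeometry.IsReduced U) (F ⨯ (yon _).obj (TK k K)) := by
  obtain ⟨U, a, hae, has⟩ := hF.atlas
  exact ⟨bcU K U, bcChart K a, bcChart_etale K hae, bcChart_surjective K has,
    isReduced_bc_iff U.hom K (h U a hae has)⟩

theorem isReduced_bc_of_etaleLocally {U : Over (Spec (CommRingCat.of k))} {a : (yon _).obj U ⟶ F}
    (ha : RepWith @Etale a)
    (h : EtaleLocally (fun U => AlgebraicGeometry.IsReduced U) (F ⨯ (yon _).obj (TK k K))) :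
    AlgebraicGeometry.IsReduced (FBase.bc U.hom K) :=
  AlgSpDescent.prop_of_etale_chart AlgSpDescent.isReduced_up AlgSpDescent.isReduced_down h (bcChart_etale K ha)

theorem forall_of_perfect [PerfectField K]
    (h : EtaleLocally (fun U => AlgebraicGeometry.IsReduced U) (F ⨯ (yon _).obj (TK k K)))
    {U : Over (Spec (CommRingCat.of k))} {a : (yon _).obj U ⟶ F} (ha : RepWith @Etale a) (u : U.left) :
    FBase.IsGeomReducedAt U.hom u := by
  have := isReduced_bc_of_etaleLocally K ha h
  obtain ⟨z, hz⟩ := bcπ_surjective K U.hom u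
  exact of_perfect U.hom u z hz inferInstance

end Space

end Groth.Agent.GeomRed15
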