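import Groth.Agent.Lib.GeomRed15.Conn

/-!
# Connected components of geometric fibres
-/

universe u

set_option backward.isDefEq.respectTransparency.types false

open CategoryTheory CategoryTheory.Limits AlgebraicGeometry AlgSp Opposite Topology
open Groth.Agent.AlgSpace Groth.Agent.AlgSpDecent

namespace Groth.Agent.GeomRed15

variable {S : Scheme.{u}}

theorem card_connectedComponents_congr {F G : Sp S} (e : F ≅ G) :
    ENat.card (_root_.ConnectedComponents (Points F)) = ENat.card (_root_.ConnectedComponents (Points G)) := by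
  have h1 : ∀ x, Points.map e.inv (Points.map e.hom x) = x := fun x => by
    rw [← Points.map_comp, e.hom_inv_id, Points.map_id]
  have h2 : ∀ x, Points.map e.hom (Points.map e.inv x) = x := fun x => by
    rw [← Points.map_comp, e.inv_hom_id, Points.map_id]
  refine ENat.card_congr
    { toFun := Continuous.connectedComponentsMap (Points.continuous_map e.hom)
      invFun := Continuous.connectedComponentsMap (Points.continuous_map e.inv)
      left_inv := fun c => ?_
      right_inv := fun c => ?_ }
  · obtain ⟨x, rfl⟩ := ConnectedComponents.surjective_coe c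
    exact congrArg ConnectedComponents.mk (h1 x)
  · obtain ⟨x, rfl⟩ := ConnectedComponents.surjective_coe c
    exact congrArg ConnectedComponents.mk (h2 x)

/-- A field extension of a separably closed field point does not change the connected components. -/
theorem card_connectedComponents_fieldExt {K Ω : Type u} [Field K] [Field Ω] [IsSepClosed K]
    {s : Spec (CommRingCat.of K) ⟶ S} {w : Spec (CommRingCat.of Ω) ⟶ S} (φ : Over.mk w ⟶ Over.mk s)
    {P Z : Sp S} {fst : P ⟶ Z} {snd : P ⟶ (yon S).obj (Over.mk w)} {z : Z ⟶ (yon S).obj (Over.mk s)}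
    (sq : IsPullback fst snd z ((yon S).map φ)) (hZ : IsAlgSpace Z) :
    ENat.card (_root_.ConnectedComponents (Points P)) = ENat.card (_root_.ConnectedComponents (Points Z)) := by
  obtain ⟨ψ, hψ⟩ := Spec.map_surjective φ.left
  let _ : Algebra K Ω := ψ.hom.toAlgebra
  have e : φ.left = Spec.map (CommRingCat.ofHom (algebraMap K Ω)) := hψ.symm
  have := GeomIrr.geometricallyIrreducible_specMap K Ω
  have : UniversallyOpen φ.left := by rw [e]; exact universallyOpen_specMap K Ω
  have : GeometricallyConnected φ.left := by rw [e]; exact GeomIrr.geometricallyConnected_of_irreducible _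
  exact ENat.card_congr (Equiv.ofBijective _ (connectedComponents_bijective_bc sq hZ))

theorem card_connectedComponents_geomFibre {X Y X' Y' : AlgSp.Space S} (f : X ⟶ Y) (g : Y' ⟶ Y) (gX : X' ⟶ X)
    (f' : X' ⟶ Y') (hsq : IsPullback gX.hom f'.hom f.hom g.hom)
    (k' : FieldPt Y'.obj) [IsSepClosed k'.K] (k : FieldPt Y.obj) [IsSepClosed k.K]
    (hkk : Points.mk k = Points.map g.hom (Points.mk k'))
    {Xk' : Sp S} {a' : Xk' ⟶ X'.obj} {b' : Xk' ⟶ (yon S).obj k'.pt} (h' : IsPullback a' b' f'.hom k'.toHom)
    {Xk : Sp S} {a : Xk ⟶ X.obj} {b : Xk ⟶ (yon S).obj k.pt} (h : IsPullback a b f.hom k.toHom) :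
    ENat.card (_root_.ConnectedComponents (Points Xk')) = ENat.card (_root_.ConnectedComponents (Points Xk)) := by
  rw [Points.map_mk] at hkk
  obtain ⟨Ω, _, w, α, β, hab⟩ := exists_common_of_mk_eq hkk
  rw [FieldPt.toHom_map] at hab
  change Over.mk w ⟶ k'.pt at β
  have hXk : IsAlgSpace Xk := isAlgSpace_baseChange X.property Y.property (IsAlgSpace.yon_obj _) h
  have hXk' : IsAlgSpace Xk' := isAlgSpace_baseChange X'.property Y'.property (IsAlgSpace.yon_obj _) h'
  have sq₁ := IsPullback.of_hasPullback b ((yon S).map α)
  have sq₂ := IsPullback.of_hasPullback b' ((yon S).map β)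
  have big₁ := sq₁.paste_horiz h
  have big₂ := (sq₂.paste_horiz h').paste_horiz hsq
  rw [← card_connectedComponents_fieldExt β sq₂ hXk', ← card_connectedComponents_fieldExt α sq₁ hXk]
  have hab' : (yon S).map α ≫ k.toHom = ((yon S).map β ≫ k'.toHom) ≫ g.hom :=
    hab.trans (Category.assoc _ _ _).symm
  have big₁' := big₁
  rw [hab'] at big₁'
  exact card_connectedComponents_congr (big₂.isoIsPullback _ _ big₁')

end Groth.Agent.GeomRed15
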