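import Groth.Agent.Lib.GeomRed15.Conn
import Groth.Agent.Lib.AlgSpDescent.RedNoeth

/-!
# Reduced fibres over field points
-/

universe u

set_option backward.isDefEq.respectTransparency.types false

open CategoryTheory CategoryTheory.Limits AlgebraicGeometry AlgSp Opposite
open Groth.Agent.AlgSpace Groth.Agent.AlgSpDecent

namespace Groth.Agent.GeomRed15

variable {S : Scheme.{u}}

/-- Reducedness descends along an extension of the field of a fibre. -/
theorem reduced_of_fieldExt {K Ω : Type u} [Field K] [Field Ω]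
    {s : Spec (CommRingCat.of K) ⟶ S} {w : Spec (CommRingCat.of Ω) ⟶ S} (φ : Over.mk w ⟶ Over.mk s)
    {P Z : Sp S} {fst : P ⟶ Z} {snd : P ⟶ (yon S).obj (Over.mk w)} {z : Z ⟶ (yon S).obj (Over.mk s)}
    (sq : IsPullback fst snd z ((yon S).map φ)) (hZ : IsAlgSpace Z)
    (hP : EtaleLocally (fun U => AlgebraicGeometry.IsReduced U) P) :
    EtaleLocally (fun U => AlgebraicGeometry.IsReduced U) Z := by
  obtain ⟨U, a, ψ, m, hae, has, h⟩ := repWith_bc sq hZ
  have hm : RepWith @Etale m := repWith_of_isPullback h.flip hae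
  have : AlgebraicGeometry.IsReduced (pullback ψ φ.left) :=
    AlgSpDescent.prop_of_etale_chart AlgSpDescent.isReduced_up AlgSpDescent.isReduced_down hP hm
  obtain ⟨ρ, hρ⟩ := Spec.map_surjective φ.left
  let _ : Algebra K Ω := ρ.hom.toAlgebra
  have e : φ.left = Spec.map (CommRingCat.ofHom (algebraMap K Ω)) := hρ.symm
  have : Surjective φ.left := by rw [e]; exact GeomIrr.surjective_specMap K Ω
  have : Flat φ.left := by
    rw [e]
    exact (HasRingHomProperty.Spec_iff (P := @Flat)).2 (RingHom.flat_algebraMap_iff.mpr inferInstance)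
  have : Flat (pullback.fst ψ φ.left) := MorphismProperty.pullback_fst _ _ inferInstance
  have : Surjective (pullback.fst ψ φ.left) := MorphismProperty.pullback_fst _ _ inferInstance
  exact ⟨U, a, hae, has, H12.isReduced_of_flat_surjective (pullback.fst ψ φ.left)⟩

theorem geomReducedFibre_tfae {X Y : AlgSp.Space S} (f : X ⟶ Y) (y : Points Y.obj) :
    [∃ (k : FieldPt Y.obj), Points.mk k = y ∧
        ∀ (k' : Type u) [Field k'] (φ : k.K →+* k') (Xk' : Sp S) (a : Xk' ⟶ X.obj)
          (b : Xk' ⟶ (yon S).obj (Over.mk (Spec.map (CommRingCat.ofHom φ) ≫ k.str))),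
          IsPullback a b f.hom ((yon S).map (Over.homMk (Spec.map (CommRingCat.ofHom φ)) rfl :
            Over.mk (Spec.map (CommRingCat.ofHom φ) ≫ k.str) ⟶ k.pt) ≫ k.toHom) →
          EtaleLocally (fun U => IsReduced U) Xk',
      ∀ (k : FieldPt Y.obj), Points.mk k = y →
        ∀ (k' : Type u) [Field k'] (φ : k.K →+* k') (Xk' : Sp S) (a : Xk' ⟶ X.obj)
          (b : Xk' ⟶ (yon S).obj (Over.mk (Spec.map (CommRingCat.ofHom φ) ≫ k.str))),
          IsPullback a b f.hom ((yon S).map (Over.homMk (Spec.map (CommRingCat.ofHom φ)) rfl :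
            Over.mk (Spec.map (CommRingCat.ofHom φ) ≫ k.str) ⟶ k.pt) ≫ k.toHom) →
          EtaleLocally (fun U => IsReduced U) Xk',
      ∀ (k : FieldPt Y.obj), Points.mk k = y →
        ∀ (Xk : Sp S) (a : Xk ⟶ X.obj) (b : Xk ⟶ (yon S).obj k.pt), IsPullback a b f.hom k.toHom →
          EtaleLocally (fun U => IsReduced U) Xk].TFAE := by
  tfae_have 3 → 2 := by
    intro h k hk k' _ φ Xk' a b sq
    let g : Over.mk (Spec.map (CommRingCat.ofHom φ) ≫ k.str) ⟶ k.pt :=
      Over.homMk (Spec.map (CommRingCat.ofHom φ)) rfl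
    let q : FieldPt Y.obj := ⟨k', _, Y.obj.obj.map g.op k.val⟩
    have e : q.toHom = (yon S).map g ≫ k.toHom := toHom_restrict k g
    refine h q ?_ Xk' a b (by rw [e]; exact sq)
    rw [← hk]
    exact Points.sound ⟨k', inferInstance, _, 𝟙 _, g, by rw [op_id, CategoryTheory.Functor.map_id]; rfl⟩
  tfae_have 2 → 1 := by
    intro h
    obtain ⟨k, rfl⟩ := Points.mk_surjective y
    exact ⟨k, rfl, h k rfl⟩
  tfae_have 1 → 3 := by
    rintro ⟨k, rfl, h⟩ k₁ hk₁ Xk a b sq
    obtain ⟨Ω, _, w, α, β, hab⟩ := exists_common_of_mk_eq hk₁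
    obtain ⟨φ, hφ⟩ := Spec.map_surjective β.left
    obtain rfl : Spec.map (CommRingCat.ofHom φ.hom) ≫ k.str = w :=
      (congrArg (· ≫ k.str) hφ).trans (Over.w β)
    obtain rfl : β = Over.homMk (Spec.map (CommRingCat.ofHom φ.hom)) rfl := Over.OverMorphism.ext hφ.symm
    have sqP := IsPullback.of_hasPullback b ((yon S).map α)
    have big := sqP.paste_horiz sq
    rw [hab] at big
    exact reduced_of_fieldExt α sqP (isAlgSpace_baseChange X.property Y.property (IsAlgSpace.yon_obj _) sq)
      (h Ω φ.hom _ _ _ big)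
  tfae_finish

end Groth.Agent.GeomRed15
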