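import Groth.Agent.Lib.GeomRed15.ConnFin

/-!
# Quasi-compact opens of base changes are defined at finite levels
-/

universe u

set_option backward.isDefEq.respectTransparency.types false

open CategoryTheory CategoryTheory.Limits AlgebraicGeometry AlgSp Opposite Topology
open Groth.Agent.AlgSpace Groth.Agent.AlgSpDecent

namespace Groth.Agent.GeomRed15

variable {k : Type u} [Field k] {F : Sp (Spec (CommRingCat.of k))} {Ω : Type u} [Field Ω] [Algebra k Ω]

/-- A quasi-compact open is stable under automorphisms fixing finitely many elements. -/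
theorem exists_finset_stable_open (hF : IsAlgSpace F) [Algebra.IsAlgebraic k Ω] {V : Set (Points (bcSp F Ω))}
    (hV : IsOpen V) (hVc : IsCompact V) :
    ∃ s : Finset Ω, ∀ σ : Ω ≃ₐ[k] Ω, (∀ c ∈ s, σ c = c) →
      ∀ x ∈ V, Points.map (bmap F (gHom (σ : Ω →ₐ[k] Ω))) x ∈ V := by
  classical
  obtain ⟨U, a, hae, has⟩ := hF.atlas
  letI : U.left.Over (Spec (CommRingCat.of k)) := ⟨U.hom⟩
  let C := bcChart Ω a
  let S : Set ↥(Curv2.bc k U.left Ω) := Points.ofPt C ⁻¹' V
  have hSo : IsOpen S := hV.preimage (Points.continuous_ofPt C)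
  have hoC := isOpenMap_ofPt C (bcChart_etale Ω hae)
  choose! s D hDo hzD hDS hD using fun z (hz : z ∈ S) => GeomIrr.exists_fixedBy hSo hz
  obtain ⟨R, hRS, hR, hcov⟩ := hVc.elim_finite_subcover_image (b := S) (c := fun z => Points.ofPt C '' D z)
    (fun z hz => hoC _ (hDo z hz)) (fun x hx => by
      obtain ⟨z, rfl⟩ := surjective_ofPt (bcChart_surjective Ω has) x
      exact Set.mem_biUnion (show z ∈ S from hx) ⟨z, hzD z hx, rfl⟩)
  refine ⟨hR.toFinset.biUnion s, fun σ hσ x hx => ?_⟩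
  obtain ⟨w, hw, z, hz, rfl⟩ := Set.mem_iUnion₂.mp (hcov hx)
  let G : bcU Ω U ⟶ bcU Ω U := Over.homMk (Curv2.galAct k U.left Ω σ) (by
    change Curv2.galAct k U.left Ω σ ≫ pullback.fst _ _ ≫ U.hom = pullback.fst _ _ ≫ U.hom
    rw [← Category.assoc]
    exact congrArg (· ≫ U.hom) ((pullback.lift_fst _ _ _).trans (Category.comp_id _)))
  have hp : G ≫ bcp Ω U = bcp Ω U := Over.OverMorphism.ext ((pullback.lift_fst _ _ _).trans (Category.comp_id _))
  have hq : G ≫ bcq Ω U = bcq Ω U ≫ gHom (σ : Ω →ₐ[k] Ω) := Over.OverMorphism.ext (pullback.lift_snd _ _ _)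
  have e : C ≫ bmap F (gHom (σ : Ω →ₐ[k] Ω)) = (yon _).map G ≫ C := by
    refine prod.hom_ext ?_ ?_
    · rw [Category.assoc, Category.assoc, bmap, prod.map_fst, Category.comp_id]
      change bcChart Ω a ≫ prod.fst = (yon _).map G ≫ bcChart Ω a ≫ prod.fst
      rw [show bcChart Ω a ≫ prod.fst = (yon _).map (bcp Ω U) ≫ a from prod.lift_fst _ _, ← Category.assoc,
        ← Functor.map_comp, hp]
    · rw [Category.assoc, Category.assoc, bmap, prod.map_snd, ← Category.assoc]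
      change (bcChart Ω a ≫ prod.snd) ≫ _ = (yon _).map G ≫ bcChart Ω a ≫ prod.snd
      rw [bcChart_snd', ← Functor.map_comp, ← Functor.map_comp, hq]
  rw [Points.map_ofPt, e, ofPt_map_comp]
  exact hDS w (hRS hw) ((hD w (hRS hw) σ
    (fun c hc => hσ c (Finset.mem_biUnion.mpr ⟨w, hR.mem_toFinset.mpr hw, hc⟩)) z).mp hz)

theorem map_bmap_cancel (σ : Ω ≃ₐ[k] Ω) (x : Points (bcSp F Ω)) :
    Points.map (bmap F (gHom (σ : Ω →ₐ[k] Ω))) (Points.map (bmap F (gHom (σ.symm : Ω →ₐ[k] Ω))) x) = x := by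
  have h : gHom (σ.symm : Ω →ₐ[k] Ω) ≫ gHom (σ : Ω →ₐ[k] Ω) = 𝟙 (TK k Ω) := by
    rw [gHom_comp, show (σ.symm : Ω →ₐ[k] Ω).comp (σ : Ω →ₐ[k] Ω) = AlgHom.id k Ω from AlgHom.ext σ.symm_apply_apply]
    exact Over.OverMorphism.ext (Spec.map_id _)
  rw [← Points.map_comp, show bmap F (gHom (σ.symm : Ω →ₐ[k] Ω)) ≫ bmap F (gHom (σ : Ω →ₐ[k] Ω)) = 𝟙 _ from by
    rw [bmap, bmap, prod.map_map, Category.comp_id, ← Functor.map_comp, h, CategoryTheory.Functor.map_id]
    exact prod.map_id_id, Points.map_id]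

theorem exists_openSubgroup (hF : IsAlgSpace F) [IsGalois k Ω] {V : Set (Points (bcSp F Ω))}
    (hV : IsOpen V) (hVc : IsCompact V) :
    ∃ H : Subgroup (Ω ≃ₐ[k] Ω), IsOpen (H : Set (Ω ≃ₐ[k] Ω)) ∧
      ∀ σ ∈ H, Points.map (bmap F (gHom (σ : Ω →ₐ[k] Ω))) '' V = V := by
  obtain ⟨s, hs⟩ := exists_finset_stable_open hF hV hVc
  let L := IntermediateField.adjoin k (s : Set Ω)
  have : FiniteDimensional k L := IntermediateField.finiteDimensional_adjoin fun x _ => Algebra.IsIntegral.isIntegral x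
  have hfix : ∀ σ ∈ L.fixingSubgroup, ∀ c ∈ s, σ c = c := fun σ hσ c hc =>
    hσ ⟨c, IntermediateField.subset_adjoin k _ (Finset.mem_coe.mpr hc)⟩
  refine ⟨L.fixingSubgroup, L.fixingSubgroup_isOpen, fun σ hσ => Set.Subset.antisymm ?_ fun x hx => ?_⟩
  · rintro _ ⟨x, hx, rfl⟩
    exact hs σ (hfix σ hσ) x hx
  · exact ⟨_, hs σ.symm (hfix _ (L.fixingSubgroup.inv_mem hσ)) x hx, map_bmap_cancel σ x⟩

theorem exists_descent_open (hF : IsAlgSpace F) [IsGalois k Ω] {V : Set (Points (bcSp F Ω))}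
    (hV : IsOpen V) (hVc : IsCompact V) :
    ∃ (L : IntermediateField k Ω) (_ : FiniteDimensional k L) (V' : Set (Points (bcSp F L))),
      IsOpen V' ∧ IsCompact V' ∧ Points.map (bmap F (gHom L.val)) ⁻¹' V' = V := by
  obtain ⟨s, hs⟩ := exists_finset_stable_open hF hV hVc
  let L := IntermediateField.adjoin k (s : Set Ω)
  have : FiniteDimensional k L := IntermediateField.finiteDimensional_adjoin fun x _ => Algebra.IsIntegral.isIntegral x
  have hn : @Normal L Ω _ _ L.val.toRingHom.toAlgebra := by convert! (inferInstance : Normal L Ω)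
  have := universallyOpen_gHom L.val
  refine ⟨L, inferInstance, Points.map (bmap F (gHom L.val)) '' V,
    isOpenMap_bc (isPullback_bmap (F := F) (gHom L.val)) (isAlgSpace_bcSp hF L) _ hV,
    hVc.image (Points.continuous_map _), preimage_image_of_stable (F := F) L.val hn fun σ hσ x hx =>
      hs σ (fun c hc => AlgHom.congr_fun hσ ⟨c, IntermediateField.subset_adjoin k _ (Finset.mem_coe.mpr hc)⟩) x hx⟩

end Groth.Agent.GeomRed15
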